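import Groth.Agent.ModEtQcLib.Submod
import Groth.Agent.ModEtQcLib.WeakAss
import Mathlib.RingTheory.Smooth.IntegralClosure
import Mathlib.RingTheory.RingHom.Etale

/-!
# The integral closure of the structure sheaf in a quasi-coherent sheaf of algebras
-/

set_option autoImplicit false
set_option backward.isDefEq.respectTransparency false
set_option backward.isDefEq.respectTransparency.types false
universe u
open CategoryTheory CategoryTheory.Limits AlgebraicGeometry Opposite AlgSp TopologicalSpace
open scoped TensorProduct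

noncomputable section

namespace IntClosEtLib

open ModEtQc

variable {S : Scheme.{u}} {X : Sp S} {A : EtSh X CommRingCat.{u + 1}} (φ : OEt X ⟶ A)

/-- The underlying module. -/
abbrev algMod : ModEt X :=
  (SheafOfModules.restrictScalars
      ((sheafCompose (etTop X) (forget₂ CommRingCat.{u + 1} RingCat.{u + 1})).map φ)).obj
    (SheafOfModules.unit ((sheafCompose (etTop X) (forget₂ CommRingCat.{u + 1} RingCat.{u + 1})).obj A))

/-- The structure map on sections. -/
abbrev str (E : EtOver X) : Ring E →+* A.obj.obj (op E) := (φ.hom.app (op E)).hom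

/-- Restriction in the algebra. -/
abbrev amap {E E' : EtOver X} (g : E' ⟶ E) : A.obj.obj (op E) →+* A.obj.obj (op E') := (A.obj.map g.op).hom

theorem str_natural {E E' : EtOver X} (g : E' ⟶ E) (r : Ring E) :
    amap g (str φ E r) = str φ E' (rho g r) :=
  (congrArg (fun ψ => ψ.hom r) (φ.hom.naturality g.op)).symm

theorem isIntegralElem_amap {E E' : EtOver X} (g : E' ⟶ E) {x : A.obj.obj (op E)}
    (hx : (str φ E).IsIntegralElem x) : (str φ E').IsIntegralElem (amap g x) := by
  obtain ⟨q, hq, hq0⟩ := hx
  refine ⟨q.map (rho g), hq.map _, ?_⟩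
  rw [Polynomial.eval₂_map, show (str φ E').comp (rho g) = (amap g).comp (str φ E) from
    RingHom.ext fun r => (str_natural φ g r).symm, ← Polynomial.hom_eval₂, hq0, map_zero]

/-- The integral elements. -/
def intSub (E : EtOver X) : Submodule (Ring E) (sec (algMod φ) E) where
  carrier := {x | (str φ E).IsIntegralElem (show A.obj.obj (op E) from x)}
  add_mem' := fun ha hb => RingHom.IsIntegralElem.add (str φ E) ha hb
  zero_mem' := (str φ E).isIntegralElem_zero
  smul_mem' := fun c _ hx => RingHom.IsIntegralElem.mul (str φ E) ((str φ E).isIntegralElem_map) hx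

theorem exists_bij (hF : BC (algMod φ)) {E E' : EtOver X} (g : E' ⟶ E) [IsAffine E.obj.left.left] [IsAffine E'.obj.left.left] :
    letI : Algebra (Ring E) (A.obj.obj (op E)) := (str φ E).toAlgebra
    letI : Algebra (Ring E) (Ring E') := (rho g).toAlgebra
    ∃ Φ : Ring E' ⊗[Ring E] A.obj.obj (op E) →+* A.obj.obj (op E'),
      Function.Bijective Φ ∧ ∀ (r : Ring E') (b : A.obj.obj (op E)), Φ (r ⊗ₜ b) = str φ E' r * amap g b := by
  letI : Algebra (Ring E) (A.obj.obj (op E)) := (str φ E).toAlgebra
  letI : Algebra (Ring E) (Ring E') := (rho g).toAlgebra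
  letI : Algebra (Ring E) (A.obj.obj (op E')) := ((str φ E').comp (rho g)).toAlgebra
  let Φ : Ring E' ⊗[Ring E] A.obj.obj (op E) →ₐ[Ring E] A.obj.obj (op E') :=
    Algebra.TensorProduct.lift
      { str φ E' with commutes' := fun r => rfl }
      { amap g with commutes' := fun r => str_natural φ g r }
      (fun _ _ => mul_comm _ _)
  refine ⟨Φ.toRingHom, ?_, fun r b => Algebra.TensorProduct.lift_tmul _ _ _ r b⟩
  let Z : Over E := Over.mk g
  have hb := (isTilde_iff_evS (algMod φ) E).1 (hF E ‹_›) Z ‹IsAffine E'.obj.left.left›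
  have e : ∀ t, Φ t = (show A.obj.obj (op E') from evS (algMod φ) Z t) := fun t => by
    induction t using TensorProduct.induction_on with
    | zero => rw [map_zero]; exact (map_zero (evS (algMod φ) Z)).symm
    | tmul r b =>
      refine (Algebra.TensorProduct.lift_tmul _ _ _ r b).trans ?_
      exact (evS_tmul (algMod φ) Z r b).symm
    | add x y hx hy =>
      rw [map_add, hx, hy]
      exact (map_add (evS (algMod φ) Z) x y).symm
  rw [show (⇑Φ.toRingHom) = _ from funext e]
  exact hb

theorem exists_preimage (hF : BC (algMod φ)) {E E' : EtOver X} (g : E' ⟶ E) [IsAffine E.obj.left.left]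
    [IsAffine E'.obj.left.left] {x : A.obj.obj (op E')} (hx : (str φ E').IsIntegralElem x) :
    letI : Algebra (Ring E) (A.obj.obj (op E)) := (str φ E).toAlgebra
    letI : Algebra (Ring E) (Ring E') := (rho g).toAlgebra
    ∃ (Φ : Ring E' ⊗[Ring E] A.obj.obj (op E) →+* A.obj.obj (op E'))
      (y : Ring E' ⊗[Ring E] integralClosure (Ring E) (A.obj.obj (op E))),
      Function.Bijective Φ ∧ (∀ (r : Ring E') (b : A.obj.obj (op E)), Φ (r ⊗ₜ b) = str φ E' r * amap g b) ∧
        Φ ((TensorProduct.toIntegralClosure (Ring E) (Ring E') (A.obj.obj (op E)) y).1) = x := by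
  letI : Algebra (Ring E) (A.obj.obj (op E)) := (str φ E).toAlgebra
  letI : Algebra (Ring E) (Ring E') := (rho g).toAlgebra
  haveI : Algebra.Etale (Ring E) (Ring E') := RingHom.etale_algebraMap.1 (etale_rho g)
  obtain ⟨Φ, hΦ, hΦt⟩ := exists_bij φ hF g
  obtain ⟨x', rfl⟩ := hΦ.2 x
  have hx' : IsIntegral (Ring E') x' := by
    obtain ⟨q, hq, hq0⟩ := hx
    refine ⟨q, hq, hΦ.1 ?_⟩
    rw [map_zero, Polynomial.hom_eval₂, ← hq0]
    congr 1
    refine RingHom.ext fun r => ?_
    refine (congrArg Φ (Algebra.TensorProduct.algebraMap_apply r)).trans ?_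
    refine (hΦt r 1).trans ?_
    rw [map_one, mul_one]
  obtain ⟨y, hy⟩ := (TensorProduct.toIntegralClosure_bijective_of_smooth (R := Ring E) (S := Ring E')
    (B := A.obj.obj (op E))).2 ⟨x', hx'⟩
  exact ⟨Φ, y, hΦ, hΦt, by rw [hy]⟩

theorem intSub_bc (hF : BC (algMod φ)) {E E' : EtOver X} (g : E' ⟶ E) (hE : IsAffine E.obj.left.left)
    (hE' : IsAffine E'.obj.left.left) (t : sec (algMod φ) E') (ht : t ∈ intSub φ E') :
    t ∈ Submodule.span (Ring E') (res (algMod φ) g '' (intSub φ E : Set (sec (algMod φ) E))) := by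
  letI : Algebra (Ring E) (A.obj.obj (op E)) := (str φ E).toAlgebra
  letI : Algebra (Ring E) (Ring E') := (rho g).toAlgebra
  haveI := hE
  haveI := hE'
  obtain ⟨Φ, y, -, hΦt, hy⟩ := exists_preimage φ hF g (x := (show A.obj.obj (op E') from t)) ht
  rw [show t = (show sec (algMod φ) E' from _) from hy.symm]
  clear hy ht
  induction y using TensorProduct.induction_on with
  | zero =>
    rw [map_zero, ZeroMemClass.coe_zero, map_zero]
    exact Submodule.zero_mem _
  | tmul r b =>
    have e : Φ (TensorProduct.toIntegralClosure (Ring E) (Ring E') (A.obj.obj (op E)) (r ⊗ₜ b)).1 =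
        str φ E' r * amap g b.1 := hΦt r b.1
    rw [e]
    exact Submodule.smul_mem _ r (Submodule.subset_span ⟨b.1, b.2, rfl⟩)
  | add p q hp hq =>
    rw [map_add, AddMemClass.coe_add, map_add]
    exact Submodule.add_mem _ hp hq

theorem intSub_loc (hF : BC (algMod φ)) (E : EtOver X) (hE : IsAffine E.obj.left.left) (n : ℕ)
    (Y : Fin n → EtOver X) (g : ∀ i, Y i ⟶ E) (hY : ∀ i, IsAffine (Y i).obj.left.left)
    (hcov : ∀ x, ∃ i, x ∈ Set.range (g i).hom.left.left) (s : sec (algMod φ) E)
    (hs : ∀ i, res (algMod φ) (g i) s ∈ intSub φ (Y i)) : s ∈ intSub φ E := by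
  haveI := hE
  haveI := hY
  let N := sec (algMod φ) E ⧸ intSub φ E
  let W : Fin n → Over E := fun i => Over.mk (g i)
  haveI : ∀ i, IsAffine (W i).left.obj.left.left := hY
  haveI : IsAffine (top E).left.obj.left.left := hE
  let h : ∀ i, W i ⟶ top E := fun i => toTop (W i)
  have h0 : (1 : Ring (top E).left) ⊗ₜ[Ring E] ((intSub φ E).mkQ s) = 0 := by
    refine ModEtQc.eq_zero_of_cover N W h hcov _ fun i => ?_
    rw [preMap_tmul, map_one]
    letI : Algebra (Ring E) (A.obj.obj (op E)) := (str φ E).toAlgebra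
    letI : Algebra (Ring E) (Ring (Y i)) := (rho (g i)).toAlgebra
    obtain ⟨Φ, y, hΦ, hΦt, hy⟩ := exists_preimage φ hF (g i) (x := amap (g i) (show A.obj.obj (op E) from s)) (hs i)
    have h1 : (TensorProduct.toIntegralClosure (Ring E) (Ring (Y i)) (A.obj.obj (op E)) y).1 =
        (1 : Ring (Y i)) ⊗ₜ[Ring E] (show A.obj.obj (op E) from s) :=
      hΦ.1 (hy.trans ((hΦt 1 _).trans (by rw [map_one, one_mul])).symm)
    let q : A.obj.obj (op E) →ₗ[Ring E] N :=
      { toFun := fun b => (intSub φ E).mkQ b
        map_add' := fun a b => map_add (intSub φ E).mkQ a b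
        map_smul' := fun c b => map_smul (intSub φ E).mkQ c b }
    have h2 : ∀ y, q.lTensor (Ring (Y i))
        (TensorProduct.toIntegralClosure (Ring E) (Ring (Y i)) (A.obj.obj (op E)) y).1 = 0 := fun y => by
      induction y using TensorProduct.induction_on with
      | zero => rw [map_zero, ZeroMemClass.coe_zero, map_zero]
      | tmul r b =>
        refine (LinearMap.lTensor_tmul (Ring (Y i)) q r b.1).trans ?_
        rw [show q b.1 = 0 from (Submodule.Quotient.mk_eq_zero _).2 b.2, TensorProduct.tmul_zero]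
      | add p p' hp hp' => rw [map_add, AddMemClass.coe_add, map_add, hp, hp', add_zero]
    exact ((congrArg (q.lTensor (Ring (Y i))) h1).symm.trans (h2 y))
  have hb : Function.Bijective (algebraMap (Ring E) (Ring (top E).left)) := by
    change Function.Bijective (rho (𝟙 E))
    rw [rho_id]
    exact Function.bijective_id
  let e : Ring E ≃ₗ[Ring E] Ring (top E).left :=
    LinearEquiv.ofBijective (Algebra.linearMap (Ring E) (Ring (top E).left)) hb
  refine (Submodule.Quotient.mk_eq_zero _).1 ?_
  have h3 := congrArg (fun z => TensorProduct.lid (Ring E) N ((LinearEquiv.rTensor N e.symm) z)) h0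
  change TensorProduct.lid (Ring E) N ((LinearEquiv.rTensor N e.symm) _) =
    TensorProduct.lid (Ring E) N ((LinearEquiv.rTensor N e.symm) 0) at h3
  rw [LinearEquiv.rTensor_tmul, TensorProduct.lid_tmul, map_zero, map_zero,
    show e.symm 1 = 1 from e.symm_apply_eq.2 (map_one (algebraMap (Ring E) (Ring (top E).left))).symm,
    one_smul] at h3
  exact h3

end IntClosEtLib
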