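import Groth.Agent.IntClosEtLib.Main

/-!
# The subsheaf of rings of locally integral sections
-/

set_option autoImplicit false
set_option backward.isDefEq.respectTransparency false
set_option backward.isDefEq.respectTransparency.types false
universe u
open CategoryTheory CategoryTheory.Limits AlgebraicGeometry Opposite AlgSp TopologicalSpace
open scoped TensorProduct

noncomputable section

namespace IntClosEtLib

open ModEtQc

variable {S : Scheme.{u}} {X : Sp S} {A : EtSh X CommRingCat.{u + 1}} (φ : OEt X ⟶ A)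

abbrev P (E : EtOver X) (_ : IsAffine E.obj.left.left) : Submodule (Ring E) (sec (algMod φ) E) := intSub φ E

abbrev L : (algMod φ).val.Submodule := localSub (algMod φ) (P φ)

/-- Locally integral sections. -/
def locInt (E : EtOver X) : Subring (A.obj.obj (op E)) where
  carrier := {s | ∀ (E' : EtOver X) (g : E' ⟶ E), IsAffine E'.obj.left.left → (str φ E').IsIntegralElem (amap g s)}
  mul_mem' := fun {a b} ha hb E' g h => by
    rw [map_mul]
    exact RingHom.IsIntegralElem.mul (str φ E') (ha E' g h) (hb E' g h)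
  one_mem' := fun E' g h => by rw [map_one]; exact (str φ E').isIntegralElem_one
  add_mem' := fun {a b} ha hb E' g h => by
    rw [map_add]
    exact RingHom.IsIntegralElem.add (str φ E') (ha E' g h) (hb E' g h)
  zero_mem' := fun E' g h => by rw [map_zero]; exact (str φ E').isIntegralElem_zero
  neg_mem' := fun {a} ha E' g h => by
    rw [map_neg]
    exact RingHom.IsIntegralElem.neg (str φ E') (ha E' g h)

theorem amap_mem {E E' : EtOver X} (g : E' ⟶ E) {s : A.obj.obj (op E)} (hs : s ∈ locInt φ E) :
    amap g s ∈ locInt φ E' := fun E'' k h => by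
  rw [show amap k (amap g s) = amap (k ≫ g) s from
    (congrArg (fun ψ => ψ.hom s) (A.obj.map_comp g.op k.op)).symm]
  exact hs E'' _ h

theorem str_mem (E : EtOver X) (r : Ring E) : str φ E r ∈ locInt φ E := fun E' g _ => by
  rw [str_natural]
  exact (str φ E').isIntegralElem_map

/-- The presheaf of rings. -/
def intPre : (EtOver X)ᵒᵖ ⥤ CommRingCat.{u + 1} where
  obj E := CommRingCat.of (locInt φ E.unop)
  map {E E'} k := CommRingCat.ofHom (RingHom.restrict (amap k.unop) (locInt φ E.unop) (locInt φ E'.unop)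
    fun _ hx => amap_mem φ k.unop hx)
  map_id E := by
    ext x
    exact congrArg (fun ψ => ψ.hom x.1) (A.obj.map_id E)
  map_comp k k' := by
    ext x
    exact congrArg (fun ψ => ψ.hom x.1) (A.obj.map_comp k k')

variable (hF : BC (algMod φ))

include hF in
theorem isSheaf_intPre : Presheaf.IsSheaf (etTop X) (intPre φ) := by
  rw [Presheaf.isSheaf_iff_isSheaf_forget _ _ (forget CommRingCat.{u + 1})]
  refine (Presheaf.isSheaf_of_iso_iff (NatIso.ofComponents
    (fun E => Equiv.toIso { toFun := fun x => ⟨x.1, x.2⟩, invFun := fun x => ⟨x.1, x.2⟩,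
                            left_inv := fun _ => rfl, right_inv := fun _ => rfl })
    (fun _ => rfl) : (L φ).toPresheafOfModules.presheaf ⋙ forget AddCommGrpCat.{u + 1} ≅
      intPre φ ⋙ forget CommRingCat.{u + 1})).1 ?_
  exact (Presheaf.isSheaf_iff_isSheaf_forget _ _ (forget AddCommGrpCat.{u + 1})).1
    (isSheaf_localSub (algMod φ) (P φ) (intSub_loc φ hF))

/-- The sheaf of rings. -/
def intSh : EtSh X CommRingCat.{u + 1} := ⟨intPre φ, isSheaf_intPre φ hF⟩

/-- The inclusion. -/
def incl : intSh φ hF ⟶ A :=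
  ⟨{ app := fun E => CommRingCat.ofHom (locInt φ E.unop).subtype, naturality := fun _ _ _ => rfl }⟩

/-- The structure map. -/
def strInt : OEt X ⟶ intSh φ hF :=
  ⟨{ app := fun E => CommRingCat.ofHom ((str φ E.unop).codRestrict (locInt φ E.unop) (str_mem φ E.unop))
     naturality := fun E E' k => by
       ext x
       exact Subtype.ext (str_natural φ k.unop x).symm }⟩

theorem strInt_incl : strInt φ hF ≫ incl φ hF = φ := by
  ext E x
  rfl

theorem mem_iff {E : EtOver X} (hE : IsAffine E.obj.left.left) (x : A.obj.obj (op E)) :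
    x ∈ locInt φ E ↔ (str φ E).IsIntegralElem x := by
  refine ⟨fun h => ?_, fun h E' g _ => isIntegralElem_amap φ g h⟩
  have := h E (𝟙 E) hE
  rwa [show amap (𝟙 E) x = x from congrArg (fun ψ => ψ.hom x) (A.obj.map_id (op E))] at this

include hF in
theorem isQuasicoherent_intSh : (algMod (strInt φ hF)).IsQuasicoherent := by
  let j : algMod (strInt φ hF) ⟶ algMod φ :=
    ⟨PresheafOfModules.homMk
      { app := fun E => AddCommGrpCat.ofHom (locInt φ E.unop).subtype.toAddMonoidHom
        naturality := fun _ _ _ => rfl }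
      (fun _ _ _ => rfl)⟩
  refine isQuasicoherent_of_bc _ fun E hE => ?_
  have hjr : ∀ (E : EtOver X) (hE : IsAffine E.obj.left.left),
      Set.range (appS j E) = (P φ E hE : Set (sec (algMod φ) E)) := fun E hE =>
    Set.ext fun s => ⟨fun ⟨y, hy⟩ => hy ▸ (mem_iff φ hE _).1 y.2, fun h => ⟨⟨s, (mem_iff φ hE s).2 h⟩, rfl⟩⟩
  have hji : ∀ E : EtOver X, Function.Injective (appS j E) := fun E a b h => Subtype.ext h
  rw [isTilde_iff_evS]
  intro Z hZ
  haveI : IsAffine E.obj.left.left := hE
  haveI : IsAffine Z.left.obj.left.left := hZ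
  haveI : Module.Flat (Ring E) (Ring Z.left) := RingHom.flat_algebraMap_iff.1 (flat_rho Z.hom)
  have e2 := (isTilde_iff_evS (algMod φ) E).1 (hF E hE) Z hZ
  have hfT := Module.Flat.lTensor_preserves_injective_linearMap (M := Ring Z.left) _ (hji E)
  refine ⟨(injective_iff_map_eq_zero _).2 fun t ht => hfT (e2.1 ?_), fun y => ?_⟩
  · rw [evS_natural, ht, map_zero, map_zero, map_zero]
  · suffices h : ∃ t, appS j Z.left (evS _ Z t) = appS j Z.left y by
      obtain ⟨t, ht⟩ := h
      exact ⟨t, hji _ ht⟩
    have key : ∀ s ∈ Submodule.span (Ring Z.left) (res (algMod φ) Z.hom '' (P φ E hE : Set (sec (algMod φ) E))),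
        ∃ t, appS j Z.left (evS _ Z t) = s := by
      intro s hs
      induction hs using Submodule.span_induction with
      | mem s hs =>
        obtain ⟨r, hr, rfl⟩ := hs
        obtain ⟨r', rfl⟩ : r ∈ Set.range (appS j E) := (hjr E hE).symm ▸ hr
        refine ⟨(1 : Ring Z.left) ⊗ₜ[Ring E] r', ?_⟩
        rw [evS_tmul, one_smul, appS_res]
      | zero => exact ⟨0, by rw [map_zero, map_zero]⟩
      | add a b _ _ ha hb =>
        obtain ⟨ta, rfl⟩ := ha
        obtain ⟨tb, rfl⟩ := hb
        exact ⟨ta + tb, by rw [map_add, map_add]⟩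
      | smul c a _ ha =>
        obtain ⟨ta, rfl⟩ := ha
        exact ⟨c • ta, by rw [evS_smul, map_smul]⟩
    refine key _ (intSub_bc φ hF Z.hom hE hZ _ ?_)
    exact (mem_iff φ hZ _).1 (show (y : locInt φ Z.left).1 ∈ _ from y.2)

end IntClosEtLib
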